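import Groth.Agent.L28.LocConstAb.Sect
import Mathlib.Algebra.Category.Grp.Limits
import Mathlib.Algebra.Category.Grp.Abelian
import Mathlib.Algebra.Homology.ShortComplex.Ab
import Mathlib.LinearAlgebra.Finsupp.LinearCombination
import Mathlib.Algebra.Homology.ShortComplex.ShortExact
import Mathlib.CategoryTheory.Limits.Preserves.Shapes.Kernels
import Mathlib.RingTheory.Noetherian.Basic
import Mathlib.CategoryTheory.ObjectProperty.Extensions

/-!
Locally constant sheaves of modules of finite type: kernels, cokernels and extensions.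
-/

set_option autoImplicit false

universe u

open CategoryTheory CategoryTheory.Limits AlgebraicGeometry Opposite GrothendieckTopology

set_option backward.isDefEq.respectTransparency.types false

namespace Groth.L28.LocConstAb

open Groth.L28.LocConst (cs cs_map cs_app top toTop exists_common exists_common_sieve)

variable {X : Scheme.{u}}

instance constOver_left_exact (W : X.Etale) : PreservesFiniteLimits (constOver W) :=
  inferInstanceAs (PreservesFiniteLimits (Functor.const (Over W)ᵒᵖ ⋙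
    presheafToSheaf (X.smallEtaleTopology.over W) AddCommGrpCat.{u + 1}))

instance constOver_right_exact (W : X.Etale) : PreservesFiniteColimits (constOver W) :=
  inferInstanceAs (PreservesFiniteColimits (Functor.const (Over W)ᵒᵖ ⋙
    presheafToSheaf (X.smallEtaleTopology.over W) AddCommGrpCat.{u + 1}))

instance constOver_additive (W : X.Etale) : (constOver W).Additive :=
  Functor.additive_of_preserves_binary_products _

/-- restriction to a localised site -/
noncomputable abbrev res (W : X.Etale) : EtCoh.Ab X ⥤ Sheaf (X.smallEtaleTopology.over W) AddCommGrpCat.{u + 1} :=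
  X.smallEtaleTopology.overPullback AddCommGrpCat.{u + 1} W

instance res_isLeftAdjoint (W : X.Etale) : (res W).IsLeftAdjoint :=
  ⟨_, ⟨(Over.forget W).sheafAdjunctionCocontinuous _ _ _⟩⟩

instance res_left_exact (W : X.Etale) : PreservesFiniteLimits (res W) := inferInstance

instance res_right_exact (W : X.Etale) : PreservesFiniteColimits (res W) := inferInstance

instance res_additive (W : X.Etale) : (res W).Additive :=
  Functor.additive_of_preserves_binary_products _


/-- finite values may be taken in `Type` -/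
lemma exists_small {F : EtCoh.Ab X} {V : X.Etale} {M : AddCommGrpCat.{u + 1}} [Finite M]
    (e : Nonempty (EtCoh.restr F V ≅ (constOver V).obj M)) :
    ∃ (M : Type) (_ : AddCommGroup M) (_ : Finite M), Nonempty (EtCoh.restr F V ≅
      (constantSheaf (X.smallEtaleTopology.over V) AddCommGrpCat.{u + 1}).obj
        (AddCommGrpCat.of (ULift.{u + 1} M))) := by
  obtain ⟨e⟩ := e
  haveI : Small.{0} M := inferInstance
  exact ⟨Shrink.{0} M, inferInstance, Finite.of_equiv _ (equivShrink M), ⟨e ≪≫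
    (constOver V).mapIso ((AddEquiv.ulift.trans Shrink.addEquiv).symm.toAddCommGrpIso)⟩⟩

theorem isFiniteLocallyConstant_kernel_cokernel {F G : EtCoh.Ab X} (φ : F ⟶ G) (hF : EtCoh.IsFiniteLocallyConstant F)
    (hG : EtCoh.IsFiniteLocallyConstant G) :
    EtCoh.IsFiniteLocallyConstant (kernel φ) ∧ EtCoh.IsFiniteLocallyConstant (cokernel φ) := by
  have hG' : EtRest.IsLocallyConstant G := by
    obtain ⟨κ, U', hU', hG⟩ := hG
    refine ⟨κ, U', hU', fun i => ?_⟩
    obtain ⟨M, _, _, e⟩ := hG i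
    exact ⟨ULift.{u + 1} M, inferInstance, e⟩
  obtain ⟨ι, U, hU, h⟩ := exists_locally_linear φ hF hG'
  obtain ⟨κ, U', hU', hGf⟩ := hG
  have key : ∀ x : X, ∃ (V : X.Etale) (v : V.left) (M N : AddCommGrpCat.{u + 1}) (_ : Finite M) (_ : Finite N)
      (f : M ⟶ N) (α : EtCoh.restr F V ≅ (constOver V).obj M) (β : EtCoh.restr G V ≅ (constOver V).obj N),
      V.hom.base v = x ∧ (res V).map φ ≫ β.hom = α.hom ≫ (constOver V).map f := by
    intro x
    obtain ⟨W, i, j, a, b, w, rfl⟩ := exists_common hU hU' x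
    obtain ⟨M, _, hM, f, α, β, hf⟩ := h i
    obtain ⟨N, _, hN, ⟨β'⟩⟩ := hGf j
    obtain ⟨V, g, v, f', hv, hf'⟩ := exists_linear_at φ (restrIso a α) (restrIso b β') w
    refine ⟨V, v, _, _, hM, inferInstanceAs (Finite (ULift.{u + 1} N)), f', restrIso g (restrIso a α),
      restrIso g (restrIso b β'), ?_, hf'⟩
    rw [← hv]
    exact (congrArg (fun m : V.left ⟶ X => m.base v) (Over.w g.hom)).symm.trans (Scheme.Hom.comp_apply _ _ _)
  choose V v M N hM hN f α β hv hf using key
  refine ⟨⟨X, V, fun x => ⟨x, v x, hv x⟩, fun x => ?_⟩, ⟨X, V, fun x => ⟨x, v x, hv x⟩, fun x => ?_⟩⟩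
  · haveI := hM x
    haveI : Finite (kernel (f x) : AddCommGrpCat.{u + 1}) :=
      Finite.of_injective _ ((AddCommGrpCat.mono_iff_injective (kernel.ι (f x))).1 inferInstance)
    exact exists_small ⟨PreservesKernel.iso (res (V x)) φ ≪≫ kernel.mapIso _ _ (α x) (β x) (hf x) ≪≫
        (PreservesKernel.iso (constOver (V x)) (f x)).symm⟩
  · haveI := hN x
    haveI : Finite (cokernel (f x) : AddCommGrpCat.{u + 1}) :=
      Finite.of_surjective _ ((AddCommGrpCat.epi_iff_surjective (cokernel.π (f x))).1 inferInstance)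
    exact exists_small ⟨PreservesCokernel.iso (res (V x)) φ ≪≫ cokernel.mapIso _ _ (α x) (β x) (hf x) ≪≫
        (PreservesCokernel.iso (constOver (V x)) (f x)).symm⟩

/-- sections over an object are left exact -/
noncomputable abbrev secFunctor (V : X.Etale) : EtCoh.Ab X ⥤ AddCommGrpCat.{u + 1} :=
  sheafToPresheaf _ _ ⋙ (evaluation _ _).obj (op V)

lemma exists_iso_of_shortExact {S : ShortComplex (EtCoh.Ab X)} (hS : S.ShortExact) {W : X.Etale}
    (w : W.left) {M' M'' : AddCommGrpCat.{u + 1}} [Finite M'] [Finite M'']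
    (α : EtCoh.restr S.X₁ W ≅ (constOver W).obj M') (γ : EtCoh.restr S.X₃ W ≅ (constOver W).obj M'') :
    ∃ (V : X.Etale) (g : V ⟶ W) (v : V.left) (M : AddCommGrpCat.{u + 1}) (_ : Finite M),
      g.left.base v = w ∧ Nonempty (EtCoh.restr S.X₂ V ≅ (constOver V).obj M) := by
  obtain ⟨n, ⟨q⟩⟩ := Finite.exists_equiv_fin M''
  let m : Fin n → M'' := q.symm
  haveI := hS.epi_g
  haveI := hS.mono_f
  haveI : Sheaf.IsLocallySurjective S.g := (Sheaf.isLocallySurjective_iff_epi' (φ := S.g)).2 inferInstance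
  obtain ⟨V₁, g₁, v₁, hv₁, hs⟩ := exists_common_sieve
    (fun k => Presheaf.imageSieve S.g.hom (sec γ (m k))) (fun k => Presheaf.imageSieve_mem _ _ _) w
  choose s hs using hs
  let l₀ : (Fin n → ℤ) →ₗ[ℤ] S.X₂.obj.obj (op V₁) := Fintype.linearCombination ℤ s
  let p₀ : (Fin n → ℤ) →ₗ[ℤ] M'' := Fintype.linearCombination ℤ m
  have hgl : ∀ a, S.g.hom.app (op V₁) (l₀ a) = sec (restrIso g₁ γ) (p₀ a) := fun a => by
    simp only [l₀, p₀, Fintype.linearCombination_apply, map_sum, map_smul, map_zsmul]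
    refine Finset.sum_congr rfl fun k _ => congrArg (fun t => a k • t) ?_
    rw [sec_restrIso]
    exact hs k
  haveI : IsNoetherian ℤ (Fin n → ℤ) := isNoetherian_of_isNoetherianRing_of_finite ℤ _
  obtain ⟨r, z, hz⟩ := Module.Finite.exists_fin (R := ℤ) (M := LinearMap.ker p₀)
  have hex : (S.map (secFunctor V₁)).Exact := hS.exact.map_of_mono_of_preservesKernel _ inferInstance inferInstance
  have ht : ∀ j, ∃ t : S.X₁.obj.obj (op V₁), S.f.hom.app (op V₁) t = l₀ (z j).1 := fun j =>
    (ShortComplex.ab_exact_iff _).1 hex (l₀ (z j).1) (by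
      show S.g.hom.app (op V₁) (l₀ (z j).1) = 0
      rw [hgl, LinearMap.mem_ker.1 (z j).2, map_zero])
  choose t ht using ht
  obtain ⟨V, g, v, hv, hx⟩ := exists_sec_eq (restrIso g₁ α) t v₁
  choose x hx using hx
  let α' := restrIso g (restrIso g₁ α)
  let γ' := restrIso g (restrIso g₁ γ)
  let l : (Fin n → ℤ) →ₗ[ℤ] S.X₂.obj.obj (op V) := (rs S.X₂ g).hom.toIntLinearMap ∘ₗ l₀
  let a₀ : M' →ₗ[ℤ] S.X₂.obj.obj (op V) := (sec α' ≫ S.f.hom.app (op V)).hom.toIntLinearMap
  let M₀ : Submodule ℤ (S.X₂.obj.obj (op V)) := LinearMap.range (a₀.coprod l)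
  have hgl' : ∀ a, S.g.hom.app (op V) (l a) = sec γ' (p₀ a) := fun a => by
    rw [sec_restrIso g]
    show _ = rs S.X₃ g (sec (restrIso g₁ γ) (p₀ a))
    rw [← hgl]
    exact NatTrans.naturality_apply S.g.hom g.op _
  have hga : ∀ y, S.g.hom.app (op V) (a₀ y) = 0 := fun y =>
    ConcreteCategory.congr_hom (congrArg (fun k => k.hom.app (op V)) S.zero) (sec α' y)
  have hmem : ∀ e : M₀, ∃ q : M'', sec γ' q = S.g.hom.app (op V) e.1 := by
    rintro ⟨_, ⟨⟨y, c⟩, rfl⟩⟩
    refine ⟨p₀ c, ?_⟩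
    show _ = S.g.hom.app (op V) (a₀ y + l c)
    rw [map_add, hga, hgl', zero_add]
  have hinjγ := sec_injective γ' v
  have hrange : ∀ e : M₀, S.g.hom.app (op V) e.1 ∈ (sec γ').hom.range := hmem
  let b : M₀ →ₗ[ℤ] M'' := ((AddMonoidHom.ofInjective hinjγ).symm.toAddMonoidHom.comp
    (((S.g.hom.app (op V)).hom.comp M₀.subtype.toAddMonoidHom).codRestrict _ hrange)).toIntLinearMap
  have hb : ∀ e : M₀, sec γ' (b e) = S.g.hom.app (op V) e.1 := fun e =>
    congrArg Subtype.val ((AddMonoidHom.ofInjective hinjγ).apply_symm_apply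
      ⟨S.g.hom.app (op V) e.1, hrange e⟩)
  let a : M' →ₗ[ℤ] M₀ := a₀.codRestrict M₀ fun y => ⟨(y, 0), by simp⟩
  have hab : b ∘ₗ a = 0 := LinearMap.ext fun y => hinjγ ((hb (a y)).trans ((hga y).trans (map_zero _).symm))
  have hbsurj : Function.Surjective b := fun q => by
    obtain ⟨c, hc⟩ : q ∈ LinearMap.range p₀ := by
      rw [show LinearMap.range p₀ = Submodule.span ℤ (Set.range m) from Fintype.range_linearCombination ℤ m]
      exact Submodule.subset_span (Equiv.surjective _ q)
    refine ⟨⟨l c, ⟨(0, c), by simp⟩⟩, hinjγ ((hb _).trans ?_)⟩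
    rw [← hc]
    exact hgl' c
  have hainj : Function.Injective a := fun y y' h => by
    haveI : Mono (S.f.hom.app (op V)) := (secFunctor V).map_mono S.f
    exact sec_injective α' v ((AddCommGrpCat.mono_iff_injective (S.f.hom.app (op V))).1 inferInstance (congrArg Subtype.val h))
  have hker : ∀ c, p₀ c = 0 → l c ∈ LinearMap.range a₀ := fun c hc => by
    have : (LinearMap.ker p₀) ≤ (LinearMap.range a₀).comap l := by
      intro c hc
      have hle : (⊤ : Submodule ℤ (LinearMap.ker p₀)) ≤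
          ((LinearMap.range a₀).comap l).comap (LinearMap.ker p₀).subtype := by
        rw [← hz, Submodule.span_le]
        rintro _ ⟨j, rfl⟩
        refine ⟨x j, ?_⟩
        show S.f.hom.app (op V) (sec α' (x j)) = rs S.X₂ g (l₀ (z j).1)
        rw [hx, ← ht]
        exact NatTrans.naturality_apply S.f.hom g.op _
      exact hle (x := ⟨c, hc⟩) trivial
    exact this hc
  let T : ShortComplex AddCommGrpCat.{u + 1} :=
    ShortComplex.mk (AddCommGrpCat.ofHom a.toAddMonoidHom) (AddCommGrpCat.ofHom b.toAddMonoidHom)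
      (ConcreteCategory.hom_ext _ _ fun y => LinearMap.congr_fun hab y)
  have hT : T.ShortExact := by
    haveI : Mono T.f := (AddCommGrpCat.mono_iff_injective _).2 hainj
    haveI : Epi T.g := (AddCommGrpCat.epi_iff_surjective _).2 hbsurj
    refine ShortComplex.ShortExact.mk' ((ShortComplex.ab_exact_iff _).2 ?_) inferInstance inferInstance
    rintro ⟨_, ⟨⟨y, c⟩, rfl⟩⟩ h
    have h1 := (hb ⟨_, ⟨(y, c), rfl⟩⟩).symm.trans (congrArg (sec γ').hom h)
    have h2 : S.g.hom.app (op V) (a₀ y + l c) = sec γ' 0 := h1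
    rw [map_add, hga, hgl', zero_add] at h2
    obtain ⟨y', hy'⟩ := hker c (hinjγ h2)
    refine ⟨y + y', Subtype.ext ?_⟩
    show a₀ (y + y') = a₀ y + l c
    rw [map_add, hy']
  let ε : (constOver V).obj (AddCommGrpCat.of M₀) ⟶ (res V).obj S.X₂ := ofSec (AddCommGrpCat.ofHom M₀.subtype.toAddMonoidHom)
  have hε : cs (X.smallEtaleTopology.over V) _ (top V) ≫ ε.hom.app (op (top V)) = AddCommGrpCat.ofHom M₀.subtype.toAddMonoidHom :=
    cs_top_ofSec _
  let φ : T.map (constOver V) ⟶ S.map (res V) :=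
    { τ₁ := α'.inv
      τ₂ := ε
      τ₃ := γ'.inv
      comm₁₂ := hom_ext_top (ConcreteCategory.hom_ext _ _ fun y => by
        refine Eq.trans ?_ (congrArg (ε.hom.app (op (top V))).hom
          (ConcreteCategory.congr_hom (cs_app (J := X.smallEtaleTopology.over V) (AddCommGrpCat.ofHom a.toAddMonoidHom) (top V)) y)).symm
        exact (ConcreteCategory.congr_hom hε (a y)).symm)
      comm₂₃ := hom_ext_top (ConcreteCategory.hom_ext _ _ fun e => by
        refine Eq.trans ?_ (congrArg (γ'.inv.hom.app (op (top V))).hom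
          (ConcreteCategory.congr_hom (cs_app (J := X.smallEtaleTopology.over V) (AddCommGrpCat.ofHom b.toAddMonoidHom) (top V)) e)).symm
        exact (congrArg (S.g.hom.app (op V)).hom (ConcreteCategory.congr_hom hε e)).trans (hb e).symm) }
  haveI : IsIso φ.τ₁ := inferInstanceAs (IsIso α'.inv)
  haveI : IsIso φ.τ₃ := inferInstanceAs (IsIso γ'.inv)
  haveI : IsIso ε := ShortComplex.isIso₂_of_shortExact_of_isIso₁₃ φ (hT.map_of_exact (constOver V))
    (hS.map_of_exact (res V))
  haveI : Finite M₀ := by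
    choose c hc using fun q : M'' => (show ∃ c, p₀ c = q from
      (Fintype.range_linearCombination ℤ m ▸ Submodule.subset_span (Equiv.surjective _ q) : q ∈ LinearMap.range p₀))
    refine Finite.of_surjective (fun z : M' × M'' => (⟨a₀ z.1 + l (c z.2), ⟨(z.1, c z.2), rfl⟩⟩ : M₀)) ?_
    rintro ⟨_, ⟨⟨y, d⟩, rfl⟩⟩
    obtain ⟨y', hy'⟩ := hker (d - c (p₀ d)) (by rw [map_sub, hc, sub_self])
    refine ⟨(y + y', p₀ d), Subtype.ext ?_⟩
    show a₀ (y + y') + l (c (p₀ d)) = a₀ y + l d
    rw [map_add, hy', map_sub]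
    abel
  refine ⟨V, g ≫ g₁, v, AddCommGrpCat.of M₀, inferInstance, ?_, ⟨(asIso ε).symm⟩⟩
  rw [← hv₁, ← hv]
  exact Scheme.Hom.comp_apply _ _ _

theorem isClosedUnderExtensions :
    ObjectProperty.IsClosedUnderExtensions (fun F : EtCoh.Ab X => EtCoh.IsFiniteLocallyConstant F) := by
  refine ⟨fun {S} hS ⟨ι, U, hU, h⟩ ⟨κ, U', hU', h'⟩ => ?_⟩
  have key : ∀ x : X, ∃ (V : X.Etale) (v : V.left) (M : AddCommGrpCat.{u + 1}) (_ : Finite M),
      V.hom.base v = x ∧ Nonempty (EtCoh.restr S.X₂ V ≅ (constOver V).obj M) := by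
    intro x
    obtain ⟨W, i, j, a, b, w, rfl⟩ := exists_common hU hU' x
    obtain ⟨M, _, hM, ⟨α⟩⟩ := h i
    obtain ⟨N, _, hN, ⟨γ⟩⟩ := h' j
    haveI : Finite (AddCommGrpCat.of (ULift.{u + 1} M)) := inferInstanceAs (Finite (ULift.{u + 1} M))
    haveI : Finite (AddCommGrpCat.of (ULift.{u + 1} N)) := inferInstanceAs (Finite (ULift.{u + 1} N))
    obtain ⟨V, g, v, P, hP, hv, e⟩ := exists_iso_of_shortExact hS w (restrIso a α) (restrIso b γ)
    refine ⟨V, v, P, hP, ?_, e⟩
    rw [← hv]
    exact (congrArg (fun m : V.left ⟶ X => m.base v) (Over.w g.hom)).symm.trans (Scheme.Hom.comp_apply _ _ _)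
  choose V v M hM hv e using key
  exact ⟨X, V, fun x => ⟨x, v x, hv x⟩, fun x => @exists_small _ _ _ _ (hM x) (e x)⟩

end Groth.L28.LocConstAb
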