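import Groth.Agent.L28.LocConst.Basic
import Mathlib.Algebra.Category.Grp.Preadditive
import Mathlib.Algebra.Category.Grp.Zero
import Mathlib.Data.Finite.Defs

/-!
Morphisms of constant sheaves of abelian groups with finite source are locally given by homomorphisms.
-/

set_option autoImplicit false

universe w v u

open CategoryTheory Limits Opposite

namespace Groth.L28.LocConstAb

open Groth.L28.LocConst (cs cs_map cs_app)

section Ab

variable {C : Type u} [Category.{v} C] {J : GrothendieckTopology C} 
  [HasWeakSheafify J (AddCommGrpCat.{w})] [J.WEqualsLocallyBijective (AddCommGrpCat.{w})]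

/-- a morphism of constant sheaves of abelian groups with finite source is locally given by a homomorphism -/
lemma locally_const_hom {M N : AddCommGrpCat.{w}} [Finite M]
    (φ : (constantSheaf J (AddCommGrpCat.{w})).obj M ⟶ (constantSheaf J (AddCommGrpCat.{w})).obj N) (W : C) :
    ∃ S ∈ J W, ∀ (V : C) (g : V ⟶ W), S g →
      ∃ h : M ⟶ N, cs J M V ≫ φ.hom.app (op V) = h ≫ cs J N V := by
  obtain ⟨n, ⟨m⟩⟩ := Finite.exists_equiv_fin M
  let m : Fin n → M := m.symm
  have hm : Function.Surjective m := Equiv.surjective _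
  let s : Fin n → ((constantSheaf J (AddCommGrpCat.{w})).obj N).obj.obj (op W) :=
    fun k => φ.hom.app (op W) (cs J M W (m k))
  let S : Sieve W :=
    Finset.univ.inf fun k => Presheaf.imageSieve (toSheafify J ((Functor.const Cᵒᵖ).obj N)) (s k)
  have hS : S ∈ J W := by
    refine Finset.inf_induction (p := fun T => T ∈ J W) (J.top_mem W)
      (fun a ha b hb => J.intersection_covering ha hb) fun k _ => ?_
    exact Presheaf.imageSieve_mem J _ _
  refine ⟨S, hS, fun V g hg => ?_⟩
  have hk : ∀ k, ∃ t : N, cs J N V t = φ.hom.app (op V) (cs J M V (m k)) := by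
    intro k
    obtain ⟨t, ht⟩ := (Finset.inf_le (f := fun k => Presheaf.imageSieve (toSheafify J ((Functor.const Cᵒᵖ).obj N))
      (s k)) (Finset.mem_univ k) : S ≤ _) g hg
    refine ⟨t, ht.trans ?_⟩
    refine (NatTrans.naturality_apply φ.hom g.op (cs J M W (m k))).symm.trans (congrArg _ ?_)
    exact ConcreteCategory.congr_hom (cs_map (J := J) M g) (m k)
  by_cases hV : (⊥ : Sieve V) ∈ J V
  · refine ⟨0, ConcreteCategory.hom_ext _ _ fun x => ?_⟩
    have hP : Presheaf.IsSheaf J ((constantSheaf J (AddCommGrpCat.{w})).obj N).obj :=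
      ((constantSheaf J (AddCommGrpCat.{w})).obj N).2
    have h0 : (𝟙 (((constantSheaf J (AddCommGrpCat.{w})).obj N).obj.obj (op V))) = 0 :=
      hP.hom_ext ⟨⊥, hV⟩ _ _ fun I => I.hf.elim
    have h1 : ∀ y : ((constantSheaf J (AddCommGrpCat.{w})).obj N).obj.obj (op V), y = 0 :=
      fun y => ConcreteCategory.congr_hom h0 y
    exact (h1 _).trans (h1 _).symm
  · have hinj : Function.Injective (cs J N V).hom := by
      intro a b hab
      by_contra hne
      refine hV ?_
      have := Presheaf.equalizerSieve_mem J (toSheafify J ((Functor.const Cᵒᵖ).obj N)) (X := op V) a b hab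
      exact J.superset_covering (fun Z f hf => hne hf) this
    have hrange : ∀ x, (cs J M V ≫ φ.hom.app (op V)).hom x ∈ (cs J N V).hom.range := fun x => by
      obtain ⟨k, rfl⟩ := hm x
      exact hk k
    refine ⟨AddCommGrpCat.ofHom ((AddMonoidHom.ofInjective hinj).symm.toAddMonoidHom.comp
      ((cs J M V ≫ φ.hom.app (op V)).hom.codRestrict _ hrange)), ConcreteCategory.hom_ext _ _ fun x => ?_⟩
    exact (congrArg Subtype.val ((AddMonoidHom.ofInjective hinj).apply_symm_apply
      ⟨(cs J M V ≫ φ.hom.app (op V)).hom x, hrange x⟩)).symm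

end Ab

end Groth.L28.LocConstAb
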