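import Groth.Agent.L28.LocConst.EtMod
import Groth.Agent.L28.LocConstAb.Basic
import Groth.Prelude.Def_EtRestW
import Groth.Agent.L27.EtSite.Points
import Mathlib.Algebra.Category.Grp.Limits

/-!
Maps between locally constant sheaves of modules of finite type on small étale sites are locally given by linear maps.
-/

set_option autoImplicit false

universe u

open CategoryTheory CategoryTheory.Limits AlgebraicGeometry Opposite GrothendieckTopology

set_option backward.isDefEq.respectTransparency.types false

namespace Groth.L28.LocConstAb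

open Groth.L28.LocConst (cs cs_map cs_app hom_ext constCompat cs_constCompat_inv cs_constCompat_inv_assoc cs_constCompat_hom exists_common)

variable {X : Scheme.{u}}

/-- the constant sheaf on a localised site -/
noncomputable abbrev constOver (U : X.Etale) : AddCommGrpCat.{u + 1} ⥤ Sheaf (X.smallEtaleTopology.over U) AddCommGrpCat.{u + 1} :=
  constantSheaf (X.smallEtaleTopology.over U) AddCommGrpCat.{u + 1}

/-- a trivialisation restricts along morphisms of the small étale site -/
noncomputable def restrIso {F : EtCoh.Ab X} {U W : X.Etale} (g : W ⟶ U) {M : AddCommGrpCat.{u + 1}}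
    (e : EtCoh.restr F U ≅ (constOver U).obj M) : EtCoh.restr F W ≅ (constOver W).obj M :=
  (X.smallEtaleTopology.overMapPullback AddCommGrpCat.{u + 1} g).mapIso e ≪≫
    constCompat (J := X.smallEtaleTopology.over W) (K := X.smallEtaleTopology.over U) (Over.map g) M

/-- A map between sheaves trivialised on `W` is, near any point of `W`, induced by a linear map. -/
lemma exists_linear_at {F G : EtCoh.Ab X} (φ : F ⟶ G) {W : X.Etale} {M N : AddCommGrpCat.{u + 1}}
    [Finite M] (α : EtCoh.restr F W ≅ (constOver W).obj M)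
    (β : EtCoh.restr G W ≅ (constOver W).obj N) (w : W.left) :
    ∃ (V : X.Etale) (g : V ⟶ W) (v : V.left) (h : M ⟶ N), g.left.base v = w ∧
      (X.smallEtaleTopology.overPullback AddCommGrpCat.{u + 1} V).map φ ≫ (restrIso g β).hom =
        (restrIso g α).hom ≫ (constOver V).map h := by
  let ψ : (constOver W).obj M ⟶ (constOver W).obj N :=
    α.inv ≫ (X.smallEtaleTopology.overPullback AddCommGrpCat.{u + 1} W).map φ ≫ β.hom
  obtain ⟨S, hS, hS'⟩ := locally_const_hom ψ (Over.mk (𝟙 W))
  obtain ⟨V, g, v, hg, hv⟩ := (Groth.L27.EtSite.mem_topology_iff _).1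
    ((X.smallEtaleTopology.mem_over_iff S).1 hS) w
  obtain ⟨h, hh⟩ := hS' _ _ ((Sieve.overEquiv_iff S g).1 hg)
  refine ⟨V, g, v, h, hv, ?_⟩
  have key : (constCompat (J := X.smallEtaleTopology.over V) (K := X.smallEtaleTopology.over W) (Over.map g) M).inv ≫
      (X.smallEtaleTopology.overMapPullback AddCommGrpCat.{u + 1} g).map ψ ≫
      (constCompat (J := X.smallEtaleTopology.over V) (K := X.smallEtaleTopology.over W) (Over.map g) N).hom =
      (constOver V).map h := by
    refine hom_ext fun U => ?_
    let t : (Over.map g).obj U ⟶ Over.mk (g ≫ (Over.mk (𝟙 W)).hom) :=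
      Over.homMk U.hom ((congrArg (fun k => U.hom ≫ k) (Category.comp_id g)).trans rfl)
    have h1 : cs (X.smallEtaleTopology.over W) M ((Over.map g).obj U) ≫ ψ.hom.app (op ((Over.map g).obj U)) =
        h ≫ cs (X.smallEtaleTopology.over W) N ((Over.map g).obj U) := by
      refine (congrArg (fun k => k ≫ ψ.hom.app _) (cs_map M t).symm).trans ?_
      refine (Category.assoc _ _ _).trans ?_
      refine (congrArg (fun k => cs (X.smallEtaleTopology.over W) M _ ≫ k) (ψ.hom.naturality t.op)).trans ?_
      refine (Category.assoc _ _ _).symm.trans ?_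
      refine (congrArg (fun k => k ≫ ((constOver W).obj N).obj.map t.op) hh).trans ?_
      exact (Category.assoc _ _ _).trans (congrArg (fun k => h ≫ k) (cs_map N t))
    refine (cs_constCompat_inv_assoc (J := X.smallEtaleTopology.over V) (K := X.smallEtaleTopology.over W)
      (Over.map g) M U _).trans ?_
    refine ((Category.assoc _ _ _).symm.trans ((congrArg (fun k => k ≫
      (constCompat (J := X.smallEtaleTopology.over V) (K := X.smallEtaleTopology.over W) (Over.map g) N).hom.hom.app
        (op U)) h1).trans ((Category.assoc _ _ _).trans ?_)))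
    exact (congrArg (fun k => h ≫ k) (cs_constCompat_hom (J := X.smallEtaleTopology.over V)
      (K := X.smallEtaleTopology.over W) (Over.map g) N U)).trans (cs_app h U).symm
  rw [← key]
  show (X.smallEtaleTopology.overMapPullback AddCommGrpCat.{u + 1} g).map
      ((X.smallEtaleTopology.overPullback AddCommGrpCat.{u + 1} W).map φ) ≫
      (X.smallEtaleTopology.overMapPullback AddCommGrpCat.{u + 1} g).map β.hom ≫ _ =
    ((X.smallEtaleTopology.overMapPullback AddCommGrpCat.{u + 1} g).map α.hom ≫ _) ≫ _
  rw [Category.assoc, Iso.hom_inv_id_assoc, ← Functor.map_comp_assoc, ← Functor.map_comp_assoc,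
    Iso.hom_inv_id_assoc]

/-- a map from a finite locally constant sheaf to a locally constant sheaf is locally induced by a homomorphism -/
lemma exists_locally_linear {F G : EtCoh.Ab X} (φ : F ⟶ G) (hF : EtCoh.IsFiniteLocallyConstant F)
    (hG : EtRest.IsLocallyConstant G) :
    ∃ (ι : Type u) (U : ι → X.Etale), EtCoh.Covers U ∧ ∀ i, ∃ (M N : AddCommGrpCat.{u + 1})
      (_ : Finite M) (h : M ⟶ N)
      (α : EtCoh.restr F (U i) ≅ (constOver (U i)).obj M) (β : EtCoh.restr G (U i) ≅ (constOver (U i)).obj N),
      (X.smallEtaleTopology.overPullback AddCommGrpCat.{u + 1} (U i)).map φ ≫ β.hom =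
        α.hom ≫ (constOver (U i)).map h := by
  obtain ⟨ι, U, hU, hF⟩ := hF
  obtain ⟨κ, U', hU', hG⟩ := hG
  have key : ∀ x : X, ∃ (V : X.Etale) (v : V.left) (M N : AddCommGrpCat.{u + 1})
      (_ : Finite M) (h : M ⟶ N)
      (α : EtCoh.restr F V ≅ (constOver V).obj M) (β : EtCoh.restr G V ≅ (constOver V).obj N),
      V.hom.base v = x ∧ (X.smallEtaleTopology.overPullback AddCommGrpCat.{u + 1} V).map φ ≫ β.hom =
        α.hom ≫ (constOver V).map h := by
    intro x
    obtain ⟨W, i, j, a, b, w, rfl⟩ := exists_common hU hU' x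
    obtain ⟨M, _, hM, ⟨α⟩⟩ := hF i
    obtain ⟨N, _, ⟨β⟩⟩ := hG j
    obtain ⟨V, g, v, h, hv, hh⟩ := exists_linear_at φ (restrIso a α) (restrIso b β) w
    refine ⟨V, v, _, _, inferInstanceAs (Finite (ULift.{u + 1} M)), h, restrIso g (restrIso a α),
      restrIso g (restrIso b β), ?_, hh⟩
    rw [← hv]
    exact (congrArg (fun m : V.left ⟶ X => m.base v) (Over.w g.hom)).symm.trans (Scheme.Hom.comp_apply _ _ _)
  choose V v M N hM h α β hv hh using key
  exact ⟨X, V, fun x => ⟨x, v x, hv x⟩, fun x => ⟨M x, N x, hM x, h x, α x, β x, hh x⟩⟩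

end Groth.L28.LocConstAb
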