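import Groth.Agent.L28.LocConstAb.Et
import Groth.Agent.L28.Pts.Basic
import Groth.Agent.L28.LocConst.Sect
import Mathlib.Algebra.Category.Grp.AB

/-!
Sections of trivialised sheaves of modules on small étale sites.
-/

set_option autoImplicit false

universe u

open CategoryTheory CategoryTheory.Limits AlgebraicGeometry Opposite GrothendieckTopology

set_option backward.isDefEq.respectTransparency.types false

namespace Groth.L28.LocConstAb

open Groth.L28.LocConst (cs cs_map cs_app hom_ext constCompat cs_constCompat_inv cs_constCompat_inv_assoc cs_constCompat_hom top toTop exists_common exists_common_sieve)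

variable {X : Scheme.{u}}

/-- the morphism out of a constant sheaf given by a linear map into the sections over the terminal object -/
noncomputable def ofSec {W : X.Etale} {M : AddCommGrpCat.{u + 1}}
    {G : Sheaf (X.smallEtaleTopology.over W) AddCommGrpCat.{u + 1}} (l : M ⟶ G.obj.obj (op (top W))) :
    (constOver W).obj M ⟶ G :=
  ObjectProperty.homMk (CategoryTheory.sheafifyLift (X.smallEtaleTopology.over W)
    ({ app := fun U => l ≫ G.obj.map (toTop U.unop).op
       naturality := fun U U' f => by
        show 𝟙 M ≫ l ≫ G.obj.map (toTop U'.unop).op = (l ≫ G.obj.map (toTop U.unop).op) ≫ G.obj.map f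
        rw [Category.id_comp, Category.assoc, ← G.obj.map_comp]
        refine congrArg (fun k => l ≫ G.obj.map k) ?_
        exact Quiver.Hom.unop_inj (Over.OverMorphism.ext (Over.w f.unop).symm) } :
      (Functor.const (Over W)ᵒᵖ).obj M ⟶ G.obj) G.2)

lemma cs_ofSec {W : X.Etale} {M : AddCommGrpCat.{u + 1}}
    {G : Sheaf (X.smallEtaleTopology.over W) AddCommGrpCat.{u + 1}} (l : M ⟶ G.obj.obj (op (top W))) (U : Over W) :
    cs (X.smallEtaleTopology.over W) M U ≫ (ofSec l).hom.app (op U) = l ≫ G.obj.map (toTop U).op :=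
  congrArg (fun k : (Functor.const (Over W)ᵒᵖ).obj M ⟶ G.obj => k.app (op U))
    (CategoryTheory.toSheafify_sheafifyLift (X.smallEtaleTopology.over W) _ G.2)

lemma cs_top_ofSec {W : X.Etale} {M : AddCommGrpCat.{u + 1}}
    {G : Sheaf (X.smallEtaleTopology.over W) AddCommGrpCat.{u + 1}} (l : M ⟶ G.obj.obj (op (top W))) :
    cs (X.smallEtaleTopology.over W) M (top W) ≫ (ofSec l).hom.app (op (top W)) = l := by
  rw [cs_ofSec]
  have : toTop (top W) = 𝟙 (top W) := Over.OverMorphism.ext rfl
  rw [this]
  exact (congrArg (fun k => l ≫ k) (G.obj.map_id _)).trans (Category.comp_id _)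

/-- morphisms out of a constant sheaf are determined by the global sections -/
lemma hom_ext_top {W : X.Etale} {M : AddCommGrpCat.{u + 1}}
    {G : Sheaf (X.smallEtaleTopology.over W) AddCommGrpCat.{u + 1}} {φ ψ : (constOver W).obj M ⟶ G}
    (h : cs (X.smallEtaleTopology.over W) M (top W) ≫ φ.hom.app (op (top W)) =
      cs (X.smallEtaleTopology.over W) M (top W) ≫ ψ.hom.app (op (top W))) : φ = ψ := by
  refine hom_ext fun U => ?_
  have e : ∀ χ : (constOver W).obj M ⟶ G, cs (X.smallEtaleTopology.over W) M U ≫ χ.hom.app (op U) =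
      (cs (X.smallEtaleTopology.over W) M (top W) ≫ χ.hom.app (op (top W))) ≫ G.obj.map (toTop U).op := fun χ => by
    refine (congrArg (fun k => k ≫ χ.hom.app _) (cs_map M (toTop U)).symm).trans ?_
    exact (Category.assoc _ _ _).trans ((congrArg (fun k => cs (X.smallEtaleTopology.over W) M (top W) ≫ k)
      (χ.hom.naturality (toTop U).op)).trans (Category.assoc _ _ _).symm)
  rw [e φ, e ψ, h]

/-- restriction of sections -/
noncomputable abbrev rs (F : EtCoh.Ab X) {W V : X.Etale} (g : V ⟶ W) :
    F.obj.obj (op W) ⟶ F.obj.obj (op V) := F.obj.map g.op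

/-- the sections given by a trivialisation -/
noncomputable def sec {F : EtCoh.Ab X} {W : X.Etale} {M : AddCommGrpCat.{u + 1}}
    (α : EtCoh.restr F W ≅ (constOver W).obj M) : M ⟶ F.obj.obj (op W) :=
  cs (X.smallEtaleTopology.over W) M (top W) ≫ α.inv.hom.app (op (top W))

lemma sec_restrIso {F : EtCoh.Ab X} {W V : X.Etale} (g : V ⟶ W) {M : AddCommGrpCat.{u + 1}}
    (α : EtCoh.restr F W ≅ (constOver W).obj M) : sec (restrIso g α) = sec α ≫ rs F g := by
  refine (cs_constCompat_inv_assoc (J := X.smallEtaleTopology.over V) (K := X.smallEtaleTopology.over W)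
    (Over.map g) M (top V) _).trans ?_
  refine (congrArg (fun k => k ≫ α.inv.hom.app _) (cs_map M (toTop ((Over.map g).obj (top V)))).symm).trans ?_
  refine (Category.assoc _ _ _).trans ((congrArg (fun k => cs (X.smallEtaleTopology.over W) M (top W) ≫ k)
    (α.inv.hom.naturality (toTop ((Over.map g).obj (top V))).op)).trans ?_)
  refine (Category.assoc _ _ _).symm.trans (congrArg (fun k : V ⟶ W => sec α ≫ F.obj.map k.op) ?_)
  exact Category.id_comp g

lemma sec_injective {F : EtCoh.Ab X} {W : X.Etale} {M : AddCommGrpCat.{u + 1}}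
    (α : EtCoh.restr F W ≅ (constOver W).obj M) (w : W.left) : Function.Injective (sec α).hom := by
  obtain ⟨Ω, _, _, ξ, hξ⟩ := Groth.L27.EtSite.exists_geometric_point (W.hom.base w)
  obtain ⟨y, -⟩ := Groth.L27.EtSite.exists_fiber ξ W w hξ.symm
  have hinj : Function.Injective (cs (X.smallEtaleTopology.over W) M (top W)).hom := fun a b hab => by
    have hl := Groth.L28.Pts.constSect_sheafFiberConstIso_hom ((Scheme.pointSmallEtale ξ).over y)
      (Point.W_isInvertedBy_presheafFiber' _) M (top W) ⟨y, rfl⟩
    have := congrArg (fun t => (Groth.L28.Pts.sheafFiberConstIso ((Scheme.pointSmallEtale ξ).over y)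
      (Point.W_isInvertedBy_presheafFiber' _) M).hom
      (((Scheme.pointSmallEtale ξ).over y).toPresheafFiber (top W) ⟨y, rfl⟩ ((constOver W).obj M).obj t)) hab
    exact (ConcreteCategory.congr_hom hl a).symm.trans (this.trans (ConcreteCategory.congr_hom hl b))
  have hα : Function.Injective (α.inv.hom.app (op (top W))).hom := fun a b hab => by
    have h : α.inv.hom.app (op (top W)) ≫ α.hom.hom.app (op (top W)) = 𝟙 _ :=
      congrArg (fun k => k.hom.app (op (top W))) α.inv_hom_id
    exact (ConcreteCategory.congr_hom h a).symm.trans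
      ((congrArg (α.hom.hom.app (op (top W))).hom hab).trans (ConcreteCategory.congr_hom h b))
  exact hα.comp hinj

/-- finitely many sections of a trivialised sheaf are constant near any point -/
lemma exists_sec_eq {F : EtCoh.Ab X} {W : X.Etale} {M : AddCommGrpCat.{u + 1}}
    (α : EtCoh.restr F W ≅ (constOver W).obj M) {n : ℕ} (t : Fin n → F.obj.obj (op W)) (w : W.left) :
    ∃ (V : X.Etale) (g : V ⟶ W) (v : V.left), g.left.base v = w ∧
      ∀ k, ∃ m : M, sec (restrIso g α) m = rs F g (t k) := by
  obtain ⟨V, g, v, hv, h⟩ := exists_common_sieve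
    (fun k => Sieve.overEquiv (top W) (Presheaf.imageSieve
      (CategoryTheory.toSheafify (X.smallEtaleTopology.over W) ((Functor.const (Over W)ᵒᵖ).obj M))
      (α.hom.hom.app (op (top W)) (t k))))
    (fun k => (X.smallEtaleTopology.mem_over_iff _).1 (Presheaf.imageSieve_mem _ _ _)) w
  refine ⟨V, g, v, hv, fun k => ?_⟩
  obtain ⟨m, hm⟩ := (Sieve.overEquiv_iff _ g).1 (h k)
  refine ⟨m, ?_⟩
  let Z : Over W := Over.mk (g ≫ (top W).hom)
  let p : Z ⟶ top W := Over.homMk g
  have e : α.hom.hom.app (op (top W)) ≫ α.inv.hom.app (op (top W)) = 𝟙 _ :=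
    congrArg (fun k => k.hom.app (op (top W))) α.hom_inv_id
  have hm' : cs (X.smallEtaleTopology.over W) M Z m =
      ((constOver W).obj M).obj.map p.op (α.hom.hom.app (op (top W)) (t k)) := hm
  rw [sec_restrIso]
  show rs F g (α.inv.hom.app (op (top W)) (cs (X.smallEtaleTopology.over W) M (top W) m)) = _
  have h1 : α.inv.hom.app (op Z) (cs (X.smallEtaleTopology.over W) M Z m) =
      (EtCoh.restr F W).obj.map p.op (t k) := by
    rw [hm']
    exact (NatTrans.naturality_apply α.inv.hom p.op _).trans
      (congrArg _ (ConcreteCategory.congr_hom e (t k)))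
  refine Eq.trans ?_ h1
  refine (NatTrans.naturality_apply α.inv.hom p.op _).symm.trans (congrArg _ ?_)
  exact ConcreteCategory.congr_hom (cs_map (J := X.smallEtaleTopology.over W) M p) m

end Groth.L28.LocConstAb
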